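import Cfsg.Agent.Spor.LyAa.S.D0

set_option autoImplicit false
set_option maxRecDepth 100000000
set_option Elab.async false

namespace Cfsg.Agent.Spor.LyAa.S

theorem gr3 : sub 0x7fe (U.growI W2 [3, 3, 3, 2, 0, 1, 2, 3, 3] (Nat.shiftLeft 1 1)) = true := by decide +kernel

theorem sd5 : U.sends [3] 0 1 = true := by decide +kernel

theorem gr6 : sub (ones 11) (U.growI ([3] :: W2) [0, 4, 4, 4, 3, 1, 2, 3, 4, 4] (Nat.shiftLeft 1 0)) = true := by decide +kernel

theorem ff8 : U.fixFrom 4 11 1 = true := by decide +kernel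

theorem ff9 : U.fixFrom 4 11 3 = true := by decide +kernel

theorem ff10 : U.fixFrom 4 11 5 = true := by decide +kernel

theorem ff11 : U.fixFrom 4 11 7 = true := by decide +kernel

theorem ff12 : U.fixFrom 4 11 9 = true := by decide +kernel

end Cfsg.Agent.Spor.LyAa.S
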